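import Cfsg.Agent.Lib.Comp.Thn.Ctl

set_option maxRecDepth 100000

namespace Cfsg.Lib.Comp.Thn

theorem fix0 : allR 1 2 8599 (fun p => cnd (allL [72, 65, 64, 66, 8, 1, 3, 5] fun a => Nat.beq (tb a p) p) false true) = true := by
  decide +kernel

theorem cen {k : Equiv.Perm ℕ} (hk : k ∈ cl (gp nets) L) (h : ∀ g ∈ cl (gp nets) L, Commute g k) : k = 1 := by
  have h0 : k 0 = 0 := by
    by_contra h0
    have h1 := cnd_ff.1 (allR_sound fix0 (i := k 0) (by omega) (lev0.1 k hk))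
    refine absurd (allL_iff.2 fun a ha => ?_) (Bool.eq_false_iff.1 h1.1)
    have h2 : a ∈ L0 := by revert a; decide +kernel
    rw [tb_ok, beq_tt, Equiv.Perm.inv_eq_iff_eq, ← Equiv.Perm.mul_apply, (h _ (ctl.hL a (l0_sub a h2))).eq,
      Equiv.Perm.mul_apply, l0_fix _ (mem_cl h2)]
  refine ctl.hB k hk fun b hb => ?_
  obtain ⟨g, hg, rfl⟩ := (ex.cons nets_ok).2.2.2.2.1 b (Nat.zero_le _) (by revert b; decide)
  rw [← Equiv.Perm.mul_apply, ← (h g (cl_lc ▸ hg)).eq, Equiv.Perm.mul_apply, h0]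

end Cfsg.Lib.Comp.Thn
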