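import Cfsg.Agent.Lib.Comp.Thn.Up0

set_option maxRecDepth 100000
set_option Elab.async false

namespace Cfsg.Lib.Comp.Thn

universe u

theorem uV_ok : allL uV (nodeB nets tb Lc uF 4267 17199 15 634023936 (mapL (·.1) uV)) = true := by decide +kernel

end Cfsg.Lib.Comp.Thn
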