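import Cfsg.Agent.Lib.Comp.Thn.Up1
import Cfsg.Agent.Lib.Comp.Thn.Up2
import Cfsg.Agent.Lib.Comp.Thn.Up3
import Cfsg.Agent.Lib.Comp.Thn.UpW
import Cfsg.Agent.Lib.Comp.Thn.UpV

set_option maxRecDepth 100000
set_option Elab.async false

namespace Cfsg.Lib.Comp.Thn

universe u

theorem uD_ok : ∀ j, 17 ≤ j → j < 4267 → der tb B Lc civ L0 al j1 j2 uPR uF (uD j) j = true :=
  (rng_app (rng_app (rng_of_allR uD_17) (rng_of_allR uD_2099)) (rng_of_allR uD_4147))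

end Cfsg.Lib.Comp.Thn
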