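import Cfsg.Agent.Lib.Comp.The.Ord

set_option maxRecDepth 100000
set_option Elab.async false

namespace Cfsg.Lib.Comp.Thn

universe u

abbrev iv := Th.iv

noncomputable abbrev R : List (List ℕ × ℕ) := Th.RN

abbrev L : List ℕ := Th.LN

end Cfsg.Lib.Comp.Thn
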