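import Cfsg.Agent.Lib.Comp.Thn.Perm1
import Cfsg.Agent.Lib.Comp.Sym6

set_option maxRecDepth 100000
set_option Elab.async false

namespace Cfsg.Lib.Comp.Thn

universe u

theorem card : Nat.card (cl (gp nets) L) = 634023936 := card_of_ord The.n_ord nets_iv nets_rel lb

def Lc : List ℕ := [1,2,3,4,5,6,7,8,9,64,65,66,67,68,69,70,71,72,73,74,75,76,77,78,79,80,81,82,83,84,85,86,87,88]

theorem cl_lc : cl (gp nets) Lc = cl (gp nets) L := by
  rw [show Lc = L ++ slp.map (·.1) by decide +kernel]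
  exact cl_eq_of_slpB nets_ok (by norm_num) slp_ok

noncomputable def Lv : List Lev := [([1,3,5,8,9,64,65,66,67,68,69,70,71,72,73,74,75,76,77,78],[2,4,6,71,75,4,73,77,6,2,75,69,4,71,77,6,75,8,1],0,0,17199),
 ([64,68],[1,3,5,8,65,67,71,75,66,8,77,65,70,75,8,8],1,1,6144),
 ([],[64,68,64],9007,9007,6)]

theorem ex : Exact nets Lv Lc := exact_of_beq (n := 634023936) (by rw [cl_lc]; exact card.le) (by decide +kernel)

noncomputable def tb : ℕ → ℕ → ℕ := tbx 20480 (tbk 15 4 prs15 nets 256)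

theorem tb_ok : TbA nets tb := tbA_tbx nets_ok (tbk_eq tr15 (by norm_num) (by norm_num) (by norm_num) nets_ok)

def B : List ℕ := [0,1,9007]

def civ : ℕ → ℕ := fun x => look (nat_lit 0x57585556535451524f504d4e4b4c494a4748464544434241403f3e3d3c3b3a393837363534333231302f2e2d2c2b2a292827262524232221201f1e1d1c1b1a191817161514131211100f0e0d0c0a0b08090607050403020100) 8 x

def al : ℕ → ℕ := fun x => look (nat_lit 0x5857565554535251504f4b4c4d4e4748494a404245444341463f3e3d3c3b3a393837363534333231302f2e2d2c2b2a292827262524232221201f1e1d1c1b1a191817161514131211100f0e0d0c0b0a08090706050403020100) 8 x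

def j1 : List ℕ := []

def j2 : List ℕ := [3,1]

theorem ctl : Ctl nets tb B Lc civ (cl (gp nets) L) :=
  ctl_of tb_ok (by rw [← cl_lc, show B = bases Lv by decide +kernel]; exact ex.isBase nets_ok) (fun _ ha => cl_lc ▸ mem_cl ha) (by decide +kernel)

noncomputable def D0 : List (ℕ × ℕ × List ℕ) := [(78,0,[5,75,8,1]),
 (77,0,[1,9,76,5]),
 (76,0,[68,9,3,67,65,5,70]),
 (75,0,[70,5,65,67,3,8,68]),
 (74,0,[71,9,3]),
 (73,0,[3,8,72]),
 (72,0,[1,69,8,5,66,3,65]),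
 (71,0,[65,3,66,5,9,69,1]),
 (70,0,[5,64]),
 (69,0,[1,67]),
 (68,0,[1,66]),
 (67,0,[64,66,5,64,66,64]),
 (1,1,[1]),
 (3,2,[3]),
 (5,3,[5]),
 (8,4,[8]),
 (9,5,[9]),
 (64,6,[2,1,3,2,5]),
 (65,7,[6,6,5,7,7]),
 (66,8,[5,7,5,7,4,3,4,5,6,4,3,4,5,6,6,4,3,4,5,7,3])]

noncomputable def L0 : List ℕ := mapL (·.1) D0

theorem lev0 : (∀ g ∈ cl (gp nets) L, g 0 < 17199) ∧ ∀ g ∈ cl (gp nets) L, g 0 = 0 → g ∈ cl (gp nets) L0 :=
  Exact.ctl nets_ok ex cl_lc (by decide +kernel)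

theorem l0_sub : ∀ a ∈ L0, a ∈ Lc := sub_of_subB (by decide +kernel)

theorem l0_fix : ∀ g ∈ cl (gp nets) L0, g 0 = 0 := fix_letters tb_ok (by decide +kernel)

end Cfsg.Lib.Comp.Thn
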