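import Cfsg.Agent.Lib.Comp.Thn.Perm0

set_option maxRecDepth 100000
set_option Elab.async false

namespace Cfsg.Lib.Comp.Thn

universe u

theorem nets_iv : IvOK (gp nets) iv := ivOK_of_ivB (k := 15) nets_ok (by norm_num) (by decide +kernel)

noncomputable def slp : List (ℕ × List ℕ) := [(64,[2,3,1,2]),
 (65,[6,6,5,7,7]),
 (66,[4,3,4]),
 (67,[64,66,5,64,66,64]),
 (68,[1,66]),
 (69,[1,67]),
 (70,[5,64]),
 (71,[65,3,66,5,9,69,1]),
 (72,[1,69,8,5,66,3,65]),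
 (73,[3,8,72]),
 (74,[71,9,3]),
 (75,[70,5,65,67,3,8,68]),
 (76,[68,9,3,67,65,5,70]),
 (77,[1,9,76,5]),
 (78,[5,75,8,1]),
 (79,[64,77,68,69,76,71,71,71,8]),
 (80,[9,72,72,72,75,69,68,78,64]),
 (81,[9,67,75,5,64,67,71,4,65]),
 (82,[65,4,72,67,64,5,76,67,8]),
 (83,[72,9,82,4,77,75,72,9,9]),
 (84,[8,8,71,76,78,4,81,8,71]),
 (85,[84,7,5,69,5,79,3,77,79]),
 (86,[80,78,3,80,5,69,5,6,83]),
 (87,[64,70,1,86,81,9,76,73,6]),
 (88,[7,74,75,8,82,85,1,70,64])]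

theorem slp_ok : slpB 20480 15 nets slp L = true := by decide +kernel

theorem mem_all {x : ℕ} (h : x ∈ L ++ slp.map (·.1)) : gp nets x ∈ cl (gp nets) L :=
  cl_eq_of_slpB nets_ok (by norm_num) slp_ok ▸ mem_cl h

theorem lb : 634023936 ≤ Nat.card (cl (gp nets) L) := by
  rw [← cl_eq_of_slpB nets_ok (by norm_num) slp_ok]
  exact lb_of_chainB nets_ok (C := [([1,3,5,8,9,64,65,66,67,68,69,70,71,72,73,74,75,76,77,78],[2,4,6,71,75,4,73,77,6,2,75,69,4,71,77,6,75,8,1],0,0,17199),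
 ([64,68],[1,3,5,8,65,67,71,75,66,8,77,65,70,75,8,8],1,1,6144),
 ([],[64,68,64],9007,9007,6)]) (by decide +kernel)

end Cfsg.Lib.Comp.Thn
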